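import Cfsg.Agent.Lib.Supersolvable.Props
import Cfsg.Agent.Lib.Supersolvable.MinNormal
import Cfsg.Agent.Lib.Coprime.Quotient

/-!
Huppert's theorem: a finite group all of whose maximal subgroups have prime index is supersolvable.
-/

set_option autoImplicit false
set_option linter.style.haveILetI false
open scoped commutatorElement
open Pointwise

namespace Cfsg.Agent.Lib.Supersolvable

universe u

variable {G : Type u} [Group G]

/-- A normal subgroup of a `p`-group-normalised pair meets the centraliser nontrivially. -/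
theorem inf_centralizer_ne_bot [Finite G] {p : ℕ} [Fact p.Prime] {P N : Subgroup G} [N.Normal]
    (hP : IsPGroup p P) (hne : N ≠ ⊥) (hNP : N ≤ P) :
    N ⊓ Subgroup.centralizer (P : Set G) ≠ ⊥ := by
  intro hbot
  haveI : (N.subgroupOf P).Normal := (inferInstance : N.Normal).subgroupOf P
  obtain ⟨e, he, hec⟩ := isPGroup_prime_dvd (hP.to_le hNP) hne
  obtain ⟨b, hb, hb1⟩ :=
    (hP.of_equiv ConjAct.toConjAct).exists_fixed_point_of_prime_dvd_card_of_fixed_point
      ↥(N.subgroupOf P) (by
        rw [Nat.card_congr (Subgroup.subgroupOfEquivOfLe hNP).toEquiv, hec]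
        exact dvd_pow_self p (by omega)) (a := 1) (fun g => smul_one g)
  have hbc : ((b : P) : G) ∈ N ⊓ Subgroup.centralizer (P : Set G) := by
    refine ⟨b.2, Subgroup.mem_centralizer_iff.2 fun l hl => ?_⟩
    have := congrArg Subtype.val (hb (ConjAct.toConjAct ⟨l, hl⟩))
    rw [ConjAct.Subgroup.val_conj_smul, ConjAct.toConjAct_smul] at this
    have h2 := congrArg Subtype.val this
    simp only [Subgroup.coe_mul, InvMemClass.coe_inv] at h2
    exact mul_inv_eq_iff_eq_mul.1 h2
  exact hb1 (Subtype.ext (Subtype.ext ((Subgroup.eq_bot_iff_forall _).1 hbot _ hbc).symm))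

/-- A nontrivial normal subgroup of a finite supersolvable group contains a normal subgroup of
prime order. -/
theorem exists_normal_prime_card_le [Finite G] (h : IsSupersolvable G) (P : Subgroup G) [P.Normal]
    (hP : P ≠ ⊥) : ∃ N : Subgroup G, N.Normal ∧ N ≤ P ∧ (Nat.card N).Prime := by
  have key : ∀ K : Subgroup G, Reach ⊥ K →
      K ⊓ P = ⊥ ∨ ∃ N : Subgroup G, N.Normal ∧ N ≤ P ∧ (Nat.card N).Prime := by
    intro K hK
    induction hK with
    | refl => exact Or.inl (bot_inf_eq _)
    | @tail A B _ hs ih =>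
      rcases ih with hA | hA
      · by_cases hB : B ⊓ P = ⊥
        · exact Or.inl hB
        obtain ⟨hAn, hBn, g, hg⟩ := hs
        let f := (QuotientGroup.mk' A).comp (B ⊓ P).subtype
        have hf : Function.Injective f := by
          rw [← MonoidHom.ker_eq_bot_iff, Subgroup.eq_bot_iff_forall]
          intro x hx
          exact Subtype.ext ((Subgroup.eq_bot_iff_forall _).1 hA _
            ⟨(QuotientGroup.eq_one_iff _).1 hx, x.2.2⟩)
        have hle : f.range ≤ Subgroup.zpowers (g : G ⧸ A) := by
          rintro _ ⟨x, rfl⟩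
          have h2 := Subgroup.mem_map_of_mem (QuotientGroup.mk' A)
            (hg ▸ x.2.1 : (x : G) ∈ A ⊔ Subgroup.zpowers g)
          rwa [Subgroup.map_sup, QuotientGroup.map_mk'_self, bot_sup_eq,
            MonoidHom.map_zpowers] at h2
        haveI : IsCyclic f.range := Subgroup.isCyclic_of_le hle
        haveI : IsCyclic ↥(B ⊓ P) :=
          isCyclic_of_surjective (MonoidHom.ofInjective hf).symm (MulEquiv.surjective _)
        obtain ⟨q, hq, hqd⟩ := Nat.exists_prime_and_dvd
          (fun h => hB (Subgroup.card_eq_one.1 h) : Nat.card ↥(B ⊓ P) ≠ 1)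
        haveI := Fact.mk hq
        obtain ⟨x, hx⟩ := exists_prime_orderOf_dvd_card' q hqd
        haveI := hBn
        refine Or.inr ⟨Subgroup.zpowers (x : G), normal_of_le_cyclic_normal
          (C := B ⊓ P) (by rw [Subgroup.zpowers_le]; exact x.2),
          by rw [Subgroup.zpowers_le]; exact x.2.2, ?_⟩
        rwa [Nat.card_zpowers, Subgroup.orderOf_coe, hx]
      · exact Or.inr hA
  exact (key ⊤ (isSupersolvable_iff.1 h)).resolve_left (by rwa [top_inf_eq])

/-- In a supersolvable group an element of `p`-prime order which is a commutator or a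
`(p-1)`-st power centralises every normal `p`-subgroup. -/
theorem centralizes_normal_pgroup (G : Type u) [Group G] [Finite G] (h : IsSupersolvable G)
    {p : ℕ} [Fact p.Prime] (P : Subgroup G) [P.Normal] (hP : IsPGroup p P) (x : G)
    (hx : ¬ p ∣ orderOf x) (hx' : x ∈ commutator G ∨ ∃ y, x = y ^ (p - 1)) :
    ∀ b ∈ P, x * b = b * x := by
  induction hn : Nat.card G using Nat.strong_induction_on generalizing G with
  | _ n ih =>
    subst hn
    intro b hb
    by_cases hPb : P = ⊥
    · rw [hPb, Subgroup.mem_bot] at hb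
      rw [hb, mul_one, one_mul]
    obtain ⟨N, hN, hNP, hNp⟩ := exists_normal_prime_card_le h P hPb
    haveI := hN
    haveI := isCyclic_of_prime_card' hNp
    have hNc : Nat.card N = p := by
      obtain ⟨e, he, hec⟩ := isPGroup_prime_dvd (hP.to_le hNP) (ne_bot_of_prime_card hNp)
      rw [hec] at hNp ⊢
      exact ((Nat.prime_dvd_prime_iff_eq Fact.out hNp).1 (dvd_pow_self p (by omega))).symm
    -- `x` centralises `N`
    have hxN : ∀ m ∈ N, x * m = m * x := by
      intro m hm
      rcases hx' with hc | ⟨y, rfl⟩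
      · exact (Subgroup.mem_centralizer_iff.1
          (commutator_le_centralizer_of_cyclic N hc) m hm).symm
      · let φ : G →* MulAut N := MulAut.conjNormal
        have h1 : φ y ^ (p - 1) = 1 := by
          have h2 : Nat.card (MulAut N) = p - 1 := by
            rw [IsCyclic.card_mulAut, hNc, Nat.totient_prime Fact.out]
          rw [← h2]
          exact pow_card_eq_one'
        rw [← map_pow] at h1
        have h3 := congrArg (fun e : MulAut N => ((e ⟨m, hm⟩ : N) : G)) h1
        simp only [φ, MulAut.conjNormal_apply, MulAut.one_apply] at h3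
        exact mul_inv_eq_iff_eq_mul.1 h3
    let f := QuotientGroup.mk' N
    have hf : Function.Surjective f := QuotientGroup.mk'_surjective N
    haveI : (P.map f).Normal := (inferInstance : P.Normal).map f hf
    have hxf : ¬ p ∣ orderOf (f x) := fun hd => hx (hd.trans (orderOf_map_dvd f x))
    have hx'' : f x ∈ commutator (G ⧸ N) ∨ ∃ y, f x = y ^ (p - 1) := by
      rcases hx' with hc | ⟨y, rfl⟩
      · refine Or.inl ?_
        have h2 : (commutator G).map f ≤ commutator (G ⧸ N) := by
          rw [← derivedSeries_one, ← derivedSeries_one]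
          exact map_derivedSeries_le_derivedSeries _ 1
        exact h2 (Subgroup.mem_map_of_mem f hc)
      · exact Or.inr ⟨f y, map_pow f y (p - 1)⟩
    have hb' := ih _ (card_quotient_lt (ne_bot_of_prime_card hNp)) (G ⧸ N) (quotient h N) (P.map f)
      (hP.map f) (f x) hxf hx'' rfl (f b) (Subgroup.mem_map_of_mem f hb)
    let c := x * b * x⁻¹ * b⁻¹
    have hcN : c ∈ N := by
      refine (QuotientGroup.eq_one_iff c).1 (show f c = 1 from ?_)
      simp only [c, map_mul, map_inv, hb']
      group
    have hit : ∀ m : ℕ, x ^ m * b = c ^ m * b * x ^ m := by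
      intro m
      induction m with
      | zero => simp
      | succ m ihm =>
        have h2 : Commute x (c ^ m) := Commute.pow_right (show Commute x c from hxN c hcN) m
        calc x ^ (m + 1) * b = x * (x ^ m * b) := by rw [pow_succ', mul_assoc]
          _ = x * c ^ m * (b * x ^ m) := by rw [ihm]; simp only [mul_assoc]
          _ = c ^ m * x * (b * x ^ m) := by rw [h2.eq]
          _ = c ^ m * (x * b) * x ^ m := by simp only [mul_assoc]
          _ = c ^ m * (c * b * x) * x ^ m := by simp only [c]; group
          _ = c ^ (m + 1) * b * x ^ (m + 1) := by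
            rw [pow_succ c, pow_succ' x]; simp only [mul_assoc]
    have h3 := hit (orderOf x)
    rw [pow_orderOf_eq_one, one_mul, mul_one] at h3
    have hc1 : c = 1 := by
      rw [← orderOf_eq_one_iff]
      refine Nat.eq_one_of_dvd_coprimes
        ((Fact.out : p.Prime).coprime_iff_not_dvd.2 hx) ?_
        (orderOf_dvd_of_pow_eq_one (mul_eq_right.1 h3.symm))
      refine orderOf_dvd_of_pow_eq_one ?_
      rw [← hNc]
      exact congrArg Subtype.val (pow_card_eq_one' (x := (⟨c, hcN⟩ : N)))
    calc x * b = c * b * x := by simp only [c]; group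
      _ = b * x := by rw [hc1, one_mul]

/-- An endomorphism of a nontrivial elementary abelian `p`-group with `σ^(p-1) = id` has an
eigenvector. -/
theorem exists_eigen_mem [Finite G] {p : ℕ} [hp : Fact p.Prime] (W : Subgroup G) (hW : W ≠ ⊥)
    (hab : ∀ a ∈ W, ∀ b ∈ W, a * b = b * a) (hexp : ∀ a ∈ W, a ^ p = 1) (h : G)
    (hh : ∀ a ∈ W, h * a * h⁻¹ ∈ W)
    (hfix : ∀ a ∈ W, h ^ (p - 1) * a * (h ^ (p - 1))⁻¹ = a) :
    ∃ (k : ℕ) (w : G), w ∈ W ∧ w ≠ 1 ∧ h * w * h⁻¹ = w ^ k := by
  letI : CommGroup W :=
    { (inferInstance : Group W) with mul_comm := fun a b => Subtype.ext (hab a a.2 b b.2) }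
  have hnsmul : ∀ a : Additive W, p • a = 0 := by
    intro a
    apply Additive.toMul.injective
    rw [toMul_nsmul, toMul_zero]
    exact Subtype.ext (hexp _ (Additive.toMul a).2)
  haveI : Module (ZMod p) (Additive W) := AddCommGroup.zmodModule hnsmul
  let σ : W →* W :=
    { toFun := fun a => ⟨h * a * h⁻¹, hh a a.2⟩
      map_one' := Subtype.ext (by simp)
      map_mul' := fun a b => Subtype.ext
        (show h * ((a : G) * b) * h⁻¹ = h * a * h⁻¹ * (h * b * h⁻¹) by group) }
  let f : Module.End (ZMod p) (Additive W) := (MonoidHom.toAdditive σ).toZModLinearMap p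
  have hf : ∀ (n : ℕ) (a : Additive W),
      ((Additive.toMul ((f ^ n) a) : W) : G) = h ^ n * (Additive.toMul a : W) * (h ^ n)⁻¹ := by
    intro n
    induction n with
    | zero => intro a; simp
    | succ n ihn =>
      intro a
      rw [pow_succ', Module.End.mul_apply]
      show h * ((Additive.toMul ((f ^ n) a) : W) : G) * h⁻¹ = _
      rw [ihn, pow_succ']
      group
  have hpow : f ^ p = f := by
    refine LinearMap.ext fun a => ?_
    apply Additive.toMul.injective
    apply Subtype.ext
    rw [hf]
    show _ = h * ((Additive.toMul a : W) : G) * h⁻¹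
    conv_lhs => rw [show p = (p - 1) + 1 by have := hp.out.pos; omega, pow_succ]
    calc h ^ (p - 1) * h * (Additive.toMul a : W) * (h ^ (p - 1) * h)⁻¹
        = h ^ (p - 1) * (h * (Additive.toMul a : W) * h⁻¹) * (h ^ (p - 1))⁻¹ := by group
      _ = h * (Additive.toMul a : W) * h⁻¹ := hfix _ (hh _ (Additive.toMul a).2)
  haveI : Nontrivial W := (Subgroup.nontrivial_iff_ne_bot W).2 hW
  haveI : Nontrivial (Additive W) := inferInstance
  haveI : Module.Finite (ZMod p) (Additive W) := Module.Finite.of_finite
  have hdvd : minpoly (ZMod p) f ∣ Polynomial.X ^ p - Polynomial.X := by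
    apply minpoly.dvd
    simp [hpow]
  have hsplit : (Polynomial.X ^ p - Polynomial.X : Polynomial (ZMod p)).Splits :=
    FiniteField.isSplittingField_sub (ZMod p) (ZMod p) |>.splits' |> fun h => by
      simpa [ZMod.card] using h
  have hne : (Polynomial.X ^ p - Polynomial.X : Polynomial (ZMod p)) ≠ 0 :=
    FiniteField.X_pow_card_sub_X_ne_zero (ZMod p) hp.out.one_lt
  have hdeg : (minpoly (ZMod p) f).degree ≠ 0 :=
    (minpoly.degree_pos (Algebra.IsIntegral.isIntegral f)).ne'
  obtain ⟨μ, hμ⟩ := (hsplit.of_dvd hne hdvd).exists_eval_eq_zero hdeg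
  obtain ⟨v, hv⟩ := (Module.End.hasEigenvalue_of_isRoot (f := f) (μ := μ) hμ).exists_hasEigenvector
  refine ⟨μ.val, (Additive.toMul v : W), (Additive.toMul v).2, fun e => hv.2 ?_, ?_⟩
  · apply Additive.toMul.injective
    exact Subtype.ext e
  · have h1 : f v = μ.val • v := by
      rw [hv.apply_eq_smul, ← Nat.cast_smul_eq_nsmul (ZMod p), ZMod.natCast_zmod_val]
    have h2 := congrArg (fun a : Additive W => ((Additive.toMul a : W) : G)) h1
    have h3 := hf 1 v
    simp only [pow_one] at h3
    exact h3.symm.trans (by simpa using h2)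

/-- An abelian group of exponent dividing `p - 1` acting on an elementary abelian `p`-group fixes a
line. -/
theorem exists_invariant_line [Finite G] {p : ℕ} [Fact p.Prime] (H : Subgroup G) (W : Subgroup G)
    (hW : W ≠ ⊥) (hab : ∀ a ∈ W, ∀ b ∈ W, a * b = b * a) (hexp : ∀ a ∈ W, a ^ p = 1)
    (hinv : ∀ h ∈ H, ∀ a ∈ W, h * a * h⁻¹ ∈ W) (hH : ∀ h ∈ H, ∀ k ∈ H, h * k = k * h)
    (hHexp : ∀ h ∈ H, h ^ (p - 1) = 1) :
    ∃ x ∈ W, x ≠ 1 ∧ ∀ h ∈ H, h * x * h⁻¹ ∈ Subgroup.zpowers x := by
  induction hn : Nat.card W using Nat.strong_induction_on generalizing W with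
  | _ n ih =>
    subst hn
    obtain ⟨x, hx, hx1⟩ := (Subgroup.ne_bot_iff_exists_ne_one).1 hW |> fun ⟨a, ha⟩ =>
      (⟨a, a.2, fun e => ha (Subtype.ext e)⟩ : ∃ x, x ∈ W ∧ x ≠ 1)
    by_cases hall : ∀ h ∈ H, h * x * h⁻¹ ∈ Subgroup.zpowers x
    · exact ⟨x, hx, hx1, hall⟩
    push Not at hall
    obtain ⟨h, hh, hxh⟩ := hall
    obtain ⟨k, w, hw, hw1, hwk⟩ := exists_eigen_mem W hW hab hexp h (hinv h hh)
      (fun a _ => by rw [hHexp h hh]; group)
    let E : Subgroup G :=
      { carrier := {a | a ∈ W ∧ h * a * h⁻¹ = a ^ k}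
        one_mem' := ⟨one_mem W, by simp⟩
        mul_mem' := fun {a b} ha hb => ⟨mul_mem ha.1 hb.1, by
          rw [(show Commute a b from hab a ha.1 b hb.1).mul_pow, ← ha.2, ← hb.2]
          group⟩
        inv_mem' := fun {a} ha => ⟨inv_mem ha.1, by rw [inv_pow, ← ha.2]; group⟩ }
    have hEW : E ≤ W := fun a ha => ha.1
    have hE : E ≠ ⊥ := fun e => hw1 ((Subgroup.eq_bot_iff_forall _).1 e w ⟨hw, hwk⟩)
    have hlt : Nat.card E < Nat.card W := by
      refine lt_of_le_of_ne (Subgroup.card_le_of_le hEW) fun e => hxh ?_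
      have hxE : x ∈ E := by rwa [Subgroup.eq_of_le_of_card_ge hEW e.ge]
      rw [hxE.2]
      exact Subgroup.npow_mem_zpowers x k
    obtain ⟨y, hy, hy1, hyH⟩ := ih _ hlt E hE (fun a ha b hb => hab a ha.1 b hb.1)
      (fun a ha => hexp a ha.1) (fun g hg a ha => ⟨hinv g hg a ha.1, by
        calc h * (g * a * g⁻¹) * h⁻¹ = (h * g) * a * (h * g)⁻¹ := by group
          _ = (g * h) * a * (g * h)⁻¹ := by rw [hH h hh g hg]
          _ = g * (h * a * h⁻¹) * g⁻¹ := by group
          _ = g * a ^ k * g⁻¹ := by rw [ha.2]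
          _ = (g * a * g⁻¹) ^ k := conj_pow.symm⟩) rfl
    exact ⟨y, hy.1, hy1, hyH⟩

/-- **Huppert's theorem.** -/
theorem of_prime_index (G : Type u) [Group G] [Finite G]
    (h : ∀ M : Subgroup G, IsCoatom M → M.index.Prime) : IsSupersolvable G := by
  induction hn : Nat.card G using Nat.strong_induction_on generalizing G with
  | _ n ih =>
    subst hn
    by_cases h1 : Nat.card G = 1
    · have := (Nat.card_eq_one_iff_unique.1 h1).1
      exact of_subsingleton
    have hquot : ∀ (N : Subgroup G) [N.Normal], N ≠ ⊥ → IsSupersolvable (G ⧸ N) := by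
      intro N _ hN
      refine ih _ (card_quotient_lt hN) (G ⧸ N) (fun M hM => ?_) rfl
      rw [← Subgroup.index_comap_of_surjective M (QuotientGroup.mk'_surjective N)]
      exact h _ (Subgroup.isCoatom_comap_of_surjective (QuotientGroup.mk'_surjective N) hM)
    have hne : (Nat.card G).primeFactors.Nonempty := Nat.nonempty_primeFactors.2 (by
      have := Nat.card_pos (α := G); omega)
    let p := (Nat.card G).primeFactors.max' hne
    have hpm := Finset.max'_mem _ hne
    haveI hpf : Fact p.Prime := ⟨Nat.prime_of_mem_primeFactors hpm⟩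
    have hp : p.Prime := hpf.out
    have hdvd : p ∣ Nat.card G := Nat.dvd_of_mem_primeFactors hpm
    obtain ⟨P⟩ : Nonempty (Sylow p G) := inferInstance
    have hPne : (P : Subgroup G) ≠ ⊥ := P.ne_bot_of_dvd_card hdvd
    haveI hPn : (P : Subgroup G).Normal := by
      rw [← Subgroup.normalizer_eq_top_iff]
      by_contra hc
      obtain ⟨M, hM, hle⟩ := (eq_top_or_exists_le_coatom _).resolve_left hc
      have hPM : (P : Subgroup G) ≤ M := Subgroup.le_normalizer.trans hle
      have hq := h M hM
      have hn1 := card_sylow_modEq_one p G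
      have hn2 := card_sylow_modEq_one p M
      rw [Sylow.card_eq_index_normalizer P] at hn1
      rw [Sylow.card_eq_index_normalizer (P.subtype hPM)] at hn2
      have e : Subgroup.normalizer ((P.subtype hPM : Sylow p M) : Set M) =
          (Subgroup.normalizer ((P : Subgroup G) : Set G)).subgroupOf M :=
        (Subgroup.subgroupOf_normalizer_eq hPM).symm
      rw [e] at hn2
      replace hn1 : (Subgroup.normalizer ((P : Subgroup G) : Set G)).index ≡ 1 [MOD p] := hn1
      rw [← Subgroup.relIndex_mul_index hle] at hn1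
      have hn3 : M.index ≡ 1 [MOD p] := by
        have := (hn2.mul_right M.index).symm.trans hn1
        rwa [one_mul] at this
      have hle' : M.index ≤ p :=
        Finset.le_max' _ _ (Nat.mem_primeFactors.2 ⟨hq, M.index_dvd_card, Nat.card_pos.ne'⟩)
      rcases eq_or_lt_of_le hle' with hqp | hqp
      · rw [hqp] at hn3
        have := Nat.modEq_zero_iff_dvd.1 (hn3.symm.trans (Nat.modEq_zero_iff_dvd.2 dvd_rfl))
        exact hp.ne_one (Nat.dvd_one.1 this)
      · have := hn3.eq_of_lt_of_lt hqp hp.one_lt
        exact hq.ne_one this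
    -- a minimal normal subgroup inside `P`
    obtain ⟨N, hN, hNne, hNP, hNmin⟩ := Components.exists_minimal_normal_le hPn hPne
    haveI := hN
    haveI : Group.IsNilpotent N := (P.isPGroup'.to_le hNP).isNilpotent
    haveI hNc := isMulCommutative_of_minimal hNne hNmin
    have hNp : IsPGroup p N := P.isPGroup'.to_le hNP
    obtain ⟨p', hp', hNp', hexp'⟩ := exists_prime_exponent hNne hNmin
    have hexp : ∀ a ∈ N, a ^ p = 1 := by
      haveI := Fact.mk hp'
      obtain ⟨e, he, hec⟩ := isPGroup_prime_dvd hNp hNne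
      obtain ⟨e', he', hec'⟩ := isPGroup_prime_dvd hNp' hNne
      have heq : p = p' := (Nat.prime_dvd_prime_iff_eq hp hp').1
        (hp.dvd_of_dvd_pow (hec' ▸ hec ▸ dvd_pow_self p (by omega)))
      rw [heq]; exact hexp'
    have hGN := hquot N hNne
    by_cases hfr : ∃ M : Subgroup G, IsCoatom M ∧ ¬ N ≤ M
    · obtain ⟨M, hM, hNM⟩ := hfr
      have hbot : N ⊓ M = ⊥ := (hNmin _ (inf_normal_of_not_le hM hNM) inf_le_left).resolve_right
        fun e => hNM (e ▸ inf_le_right)
      have htop : N ⊔ M = ⊤ := hM.2 _ (lt_of_le_of_ne le_sup_right fun e => hNM (e ▸ le_sup_left))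
      have hc : Subgroup.IsComplement' N M := by
        refine Subgroup.isComplement'_of_disjoint_and_mul_eq_univ (disjoint_iff.2 hbot) ?_
        rw [← Subgroup.normal_mul, htop, Subgroup.coe_top]
      haveI : IsCyclic N := isCyclic_of_prime_card' (hc.index_eq_card ▸ h M hM)
      exact of_cyclic_extension N hGN
    push Not at hfr
    by_cases huniq : ∃ K : Subgroup G, K.Normal ∧ K ≠ ⊥ ∧ ¬ N ≤ K
    · obtain ⟨K, hK, hKne, hNK⟩ := huniq
      haveI := hK
      have hbot : N ⊓ K = ⊥ := (hNmin _ inferInstance inf_le_left).resolve_right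
        fun e => hNK (e ▸ inf_le_right)
      refine of_injective (prod hGN (hquot K hKne))
        ((QuotientGroup.mk' N).prod (QuotientGroup.mk' K)) ?_
      rw [← MonoidHom.ker_eq_bot_iff, Subgroup.eq_bot_iff_forall]
      intro x hx
      obtain ⟨ha, hb⟩ := Prod.ext_iff.1 (MonoidHom.mem_ker.1 hx)
      exact (Subgroup.eq_bot_iff_forall _).1 hbot x
        ⟨(QuotientGroup.eq_one_iff x).1 ha, (QuotientGroup.eq_one_iff x).1 hb⟩
    push Not at huniq
    obtain ⟨H, hH⟩ := Subgroup.exists_right_complement'_of_coprime P.card_coprime_index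
    have hHc : Nat.card H = (P : Subgroup G).index := hH.symm.index_eq_card.symm
    have hpH : ¬ p ∣ Nat.card H := hHc ▸ P.not_dvd_index
    have hPH : (P : Subgroup G) ⊓ H = ⊥ := disjoint_iff.1 hH.disjoint
    have htopPH : (P : Subgroup G) ⊔ H = ⊤ := hH.sup_eq_top
    -- no nontrivial element of `H` centralises `P`
    have hfaith : ∀ x ∈ H, (∀ b ∈ (P : Subgroup G), x * b = b * x) → x = 1 := by
      intro x hx hxc
      let C := H ⊓ Subgroup.centralizer ((P : Subgroup G) : Set G)
      have hCn : C.Normal := by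
        rw [← Subgroup.normalizer_eq_top_iff, eq_top_iff, ← htopPH, sup_le_iff]
        refine ⟨le_trans ?_ (Subgroup.centralizer_le_normalizer _), ?_⟩
        · exact Subgroup.le_centralizer_iff.1 (inf_le_right : C ≤ _)
        · exact (Subgroup.normal_subgroupOf_iff_le_normalizer inf_le_left).1
            ((Subgroup.normal_centralizer (H := (P : Subgroup G))).subgroupOf H |> fun h => by
              rwa [show C.subgroupOf H =
                (Subgroup.centralizer ((P : Subgroup G) : Set G)).subgroupOf H from
                Subgroup.inf_subgroupOf_left _ H])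
      by_contra hx1
      have hxC : x ∈ C := ⟨hx, Subgroup.mem_centralizer_iff.2 fun b hb => (hxc b hb).symm⟩
      have hCne : C ≠ ⊥ := fun e => hx1 ((Subgroup.eq_bot_iff_forall _).1 e x hxC)
      refine hNne (le_bot_iff.1 ?_)
      rw [← hPH]
      exact le_inf hNP ((huniq C hCn hCne).trans inf_le_left)
    -- the elements of `H` acting trivially modulo `N` are trivial
    let f := QuotientGroup.mk' N
    have hf : Function.Surjective f := QuotientGroup.mk'_surjective N
    let K : Subgroup G := H ⊓ (Subgroup.centralizer (((P : Subgroup G).map f : Subgroup (G ⧸ N)) :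
      Set (G ⧸ N))).comap f
    haveI : ((P : Subgroup G).map f).Normal := hPn.map f hf
    have hHK : H ≤ Subgroup.normalizer (K : Set G) :=
      (Subgroup.normal_subgroupOf_iff_le_normalizer inf_le_left).1
        (((Subgroup.normal_centralizer (H := (P : Subgroup G).map f)).comap f).subgroupOf H |>
          fun h => by
          rwa [show K.subgroupOf H = _ from Subgroup.inf_subgroupOf_left _ H])
    have hKbot : K = ⊥ := by
      have hKP : K ≤ Subgroup.normalizer ((P : Subgroup G) : Set G) := by
        rw [Subgroup.normalizer_eq_top_iff.2 hPn]; exact le_top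
      have hco : (Nat.card K).Coprime (Nat.card P) := by
        refine Nat.Coprime.coprime_dvd_left (Subgroup.card_dvd_of_le inf_le_left) ?_
        rw [hHc]
        exact P.card_coprime_index.symm
      have hfix := Coprime.map_inf_centralizer (A := K) (K := (P : Subgroup G)) f hKP
        (hco.coprime_dvd_right (Subgroup.card_dvd_of_le inf_le_right))
        (Or.inr (by
          haveI : Group.IsNilpotent (f.ker ⊓ (P : Subgroup G) : Subgroup G) :=
            (P.isPGroup'.to_le inf_le_right).isNilpotent
          infer_instance))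
      let D := (P : Subgroup G) ⊓ Subgroup.centralizer (K : Set G)
      have hD : D.map f = (P : Subgroup G).map f := by
        show ((P : Subgroup G) ⊓ Subgroup.centralizer (K : Set G)).map f = _
        rw [hfix, inf_eq_left]
        refine Subgroup.le_centralizer_iff.1 ?_
        rintro _ ⟨k, hk, rfl⟩
        exact hk.2
      have htop : D ⊔ H = ⊤ := by
        by_contra hc
        obtain ⟨M, hM, hle⟩ := (eq_top_or_exists_le_coatom _).resolve_left hc
        apply hM.1
        refine top_le_iff.1 (htopPH ▸ sup_le ?_ (le_sup_right.trans hle))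
        intro b hb
        obtain ⟨d, hd, hdb⟩ := Subgroup.mem_map.1 (hD ▸ Subgroup.mem_map_of_mem f hb)
        have h2 : d⁻¹ * b ∈ N := QuotientGroup.eq.1 hdb
        have h3 := mul_mem (le_sup_left.trans hle hd) (hfr M hM h2)
        rwa [mul_inv_cancel_left] at h3
      have hDP : (P : Subgroup G) ≤ Subgroup.centralizer (K : Set G) := by
        intro b hb
        have hHD : H ≤ Subgroup.normalizer (D : Set G) := by
          intro g hg
          rw [mem_normalizer_iff_conj_smul, Subgroup.smul_inf,
            mem_normalizer_iff_conj_smul.1 (Subgroup.normalizer_eq_top_iff.2 hPn ▸ Subgroup.mem_top g)]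
          congr 1
          have h3 : Subgroup.normalizer (K : Set G) ≤
              Subgroup.normalizer ((Subgroup.centralizer (K : Set G) : Subgroup G) : Set G) := by
            exact (Subgroup.normal_subgroupOf_iff_le_normalizer
              (Subgroup.centralizer_le_normalizer _)).1 inferInstance
          exact mem_normalizer_iff_conj_smul.1 (h3 (hHK hg))
        obtain ⟨k, hk, d, hd, hdk⟩ : b ∈ (H : Set G) * (D : Set G) := by
          rw [← Subgroup.coe_mul_of_left_le_normalizer_right H D hHD, sup_comm, htop]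
          exact Subgroup.mem_top b
        dsimp only at hdk
        have hkP : k ∈ (P : Subgroup G) := by
          have : k = b * d⁻¹ := by rw [← hdk]; group
          rw [this]
          exact mul_mem hb (inv_mem hd.1)
        have hk1 : k = 1 := (Subgroup.eq_bot_iff_forall _).1 hPH k ⟨hkP, hk⟩
        rw [hk1, one_mul] at hdk
        exact hdk ▸ hd.2
      rw [Subgroup.eq_bot_iff_forall]
      intro k hk
      exact hfaith k hk.1 fun b hb => Subgroup.mem_centralizer_iff.1 (hDP hb) k hk
    have hK1 : ∀ x ∈ H, (x ∈ commutator G ∨ ∃ y, x = y ^ (p - 1)) → x = 1 := by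
      intro x hx hx'
      refine (Subgroup.eq_bot_iff_forall _).1 hKbot x
        ⟨hx, Subgroup.mem_comap.2 (Subgroup.mem_centralizer_iff.2 ?_)⟩
      intro b hb
      refine (centralizes_normal_pgroup (G ⧸ N) hGN ((P : Subgroup G).map f)
        (P.isPGroup'.map f) (f x) (fun hd => hpH ?_) ?_ b hb).symm
      · exact hd.trans ((orderOf_map_dvd f x).trans (Subgroup.orderOf_dvd_natCard H hx))
      · rcases hx' with hc | ⟨y, rfl⟩
        · refine Or.inl ?_
          have h2 : (commutator G).map f ≤ commutator (G ⧸ N) := by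
            rw [← derivedSeries_one, ← derivedSeries_one]
            exact map_derivedSeries_le_derivedSeries _ 1
          exact h2 (Subgroup.mem_map_of_mem f hc)
        · exact Or.inr ⟨f y, map_pow f y (p - 1)⟩
    have hHab : ∀ a ∈ H, ∀ b ∈ H, a * b = b * a := fun a ha b hb =>
      commutatorElement_eq_one_iff_mul_comm.1 (hK1 ⁅a, b⁆
        (mul_mem (mul_mem (mul_mem ha hb) (inv_mem ha)) (inv_mem hb))
        (Or.inl (Subgroup.commutator_mem_commutator (Subgroup.mem_top a) (Subgroup.mem_top b))))
    have hHexp : ∀ a ∈ H, a ^ (p - 1) = 1 := fun a ha =>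
      hK1 _ (pow_mem ha _) (Or.inr ⟨a, rfl⟩)
    have hNcen : N ≤ Subgroup.centralizer ((P : Subgroup G) : Set G) := by
      rcases hNmin (N ⊓ Subgroup.centralizer ((P : Subgroup G) : Set G)) inferInstance inf_le_left
        with e | e
      · exact absurd e (inf_centralizer_ne_bot P.isPGroup' hNne hNP)
      · exact inf_eq_left.1 e
    obtain ⟨x, hx, hx1, hxH⟩ := exists_invariant_line H N hNne
      (fun a ha b hb => congrArg Subtype.val (mul_comm' (⟨a, ha⟩ : N) ⟨b, hb⟩)) hexp
      (fun g _ a ha => hN.conj_mem a ha g) hHab hHexp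
    have hconj : ∀ g : G, g * x * g⁻¹ ∈ Subgroup.zpowers x := by
      intro g
      obtain ⟨b, hb, k, hk, rfl⟩ :=
        Subgroup.mem_sup_of_normal_left.1 (htopPH ▸ Subgroup.mem_top g)
      have h2 : b * (k * x * k⁻¹) = k * x * k⁻¹ * b :=
        Subgroup.mem_centralizer_iff.1 (hNcen (hN.conj_mem x hx k)) b hb
      have h3 : b * k * x * (b * k)⁻¹ = k * x * k⁻¹ := by
        calc b * k * x * (b * k)⁻¹ = b * (k * x * k⁻¹) * b⁻¹ := by group
          _ = k * x * k⁻¹ := by rw [h2]; group
      rw [h3]
      exact hxH k hk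
    have hXn : (Subgroup.zpowers x).Normal := by
      constructor
      rintro _ ⟨m, rfl⟩ g
      show g * x ^ m * g⁻¹ ∈ _
      rw [← conj_zpow]
      exact zpow_mem (hconj g) m
    rcases hNmin _ hXn (by rwa [Subgroup.zpowers_le]) with e | e
    · exact absurd (Subgroup.zpowers_eq_bot.1 e) hx1
    · haveI : IsCyclic N := e ▸ inferInstance
      exact of_cyclic_extension N hGN

end Cfsg.Agent.Lib.Supersolvable
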